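import Cfsg.Agent.Lib.Recog.HsTwoLocal.Certs.CBad1.Tree0

set_option autoImplicit false
set_option maxRecDepth 20000

/-! Generated certificate: a wrong constant (tools/cosetbound/gen_pairs.py; owner: helper21). -/

namespace CfsgLib.Recog.HsTwoLocal.Certs.CBad1
open CfsgLib.Recog.SporBound (Q)

noncomputable def factTree : Q (ℕ) := (.node (.node ft7 ft14 ft21 ft28) (.node ft36 ft43 ft50 ft57) (.node ft65 ft72 ft79 ft86) (.node ft93 ft100 ft107 ft114))
noncomputable def nodeTree : Q (ℕ) := ct0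
noncomputable def stepTree : Q (List ℕ) := (.node (.node st8 st17 st26 st34) (.node st43 st52 st61 st69) (.node st78 st87 st96 st104) (.node st113 st122 st130 st138))
noncomputable def finalTree : Q (List ℕ) := et0

/-- The certificate. -/
noncomputable def cert : CfsgLib.Sporadic.PairEnum.Cert where
  n := 1
  nd := 4739
  nf := 12554
  nl := 14
  kl := []
  facts := factTree
  cn := nodeTree
  steps := stepTree
  finals := finalTree
  rels := [[0, 0, 0, 0],
    [2, 2, 2, 2],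
    [4, 4, 4, 4],
    [3, 1, 2, 0],
    [5, 1, 4, 0],
    [5, 3, 4, 2],
    [6, 6, 6],
    [8, 8],
    [10, 10],
    [6, 9, 6, 8],
    [5, 7, 2, 6],
    [4, 2, 1, 7, 4, 6],
    [4, 9, 2, 8],
    [7, 11, 6, 9, 10, 8],
    [6, 11, 7, 7, 10, 6, 10],
    [11, 5, 2, 2, 1, 10, 5],
    [12, 12, 12, 12, 12],
    [1, 13, 0, 12],
    [11, 13, 2, 2, 12],
    [6, 11, 7, 13, 4, 4, 12],
    [7, 4, 11, 5, 6, 13, 10, 12],
    [6, 4, 11, 7, 2, 1, 13, 7, 10, 6, 12],
    [6, 5, 11, 7, 3, 13, 13, 2, 6, 10, 4, 7, 9, 6, 3, 12, 2, 7, 8],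
    [5, 6, 4, 11, 1, 13, 13, 13, 2, 12]]
  subs := []

/-- Traced words with their chains. -/
noncomputable def closers : List (List ℕ × ℕ) :=
  [([0, 0], 0x31090000003109000000000400000)]

end CfsgLib.Recog.HsTwoLocal.Certs.CBad1
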